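import Cfsg.Agent.R08.FiTwentyFour

/-!
# `Fi24'` is transitive on the products of two (non)commuting transpositions (helper842, for S4908)

* `exists_nc` : `Fi24` is transitive on the ordered pairs of noncommuting transpositions;
* `nc_even` : so is `Fi24'`;
* `conj_pair` : the pairs of distinct transpositions, commuting or not, under `Fi24'`.
-/

set_option autoImplicit false

namespace Cfsg.Agent.H842.S8

open Cfsg Cfsg.Spor Cfsg.Agent.Fischer Cfsg.Agent.R08 Cfsg.Agent.R08.FiTwentyFour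
open Cfsg.Agent.Fischer.Fi24Class (gen)
open Cfsg.Agent.Fischer.Fi24Final (sgn)

theorem lk_nc : ¬ Commute (gen .l) (gen .k) := by
  intro h
  refine Fi24Class.k_ncomm_l ?_ h.eq
  rw [card_commutator]
  norm_num

/-- `Fi24` is transitive on the ordered pairs of noncommuting transpositions -/
theorem exists_nc {d e : Fi24} (hd : d ∈ L) (he : e ∈ L) (h : ¬ Commute d e) :
    ∃ g : Fi24, g * gen .l * g⁻¹ = d ∧ g * gen .k * g⁻¹ = e := by
  obtain ⟨R, h1, -, h3⟩ := facts.exists_rank3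
  have hk : gen .k ∈ L := gen_mem_L .k
  rw [← h3] at hd he hk
  obtain ⟨x, rfl⟩ := hd
  obtain ⟨y, rfl⟩ := he
  obtain ⟨w, hw⟩ := hk
  obtain ⟨u, rfl⟩ := R.trans x
  have e1 : ¬ R.Com R.x0 (u⁻¹ • y) := by
    intro h4
    apply h
    have h5 := (R.com_smul u R.x0 (u⁻¹ • y)).2 h4
    rw [smul_inv_smul] at h5
    exact h5
  have e2 : ¬ R.Com R.x0 w := by
    intro h4
    apply lk_nc
    rw [R.com_def, h1, hw] at h4
    exact h4
  obtain ⟨m, hm, hm'⟩ := R.not_com_x0_iff.1 e1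
  obtain ⟨n, hn, hn'⟩ := R.not_com_x0_iff.1 e2
  refine ⟨u * m * n⁻¹, ?_, ?_⟩
  · rw [← h1, ← R.map_smul]
    congr 1
    have h6 : n⁻¹ • R.x0 = R.x0 := by rw [inv_smul_eq_iff, hn]
    rw [mul_smul, mul_smul, h6, hm]
  · rw [← hw, ← R.map_smul]
    congr 1
    rw [← hn', mul_smul, inv_smul_smul, mul_smul, hm', smul_inv_smul]

/-- `Fi24'` is transitive on the ordered pairs of noncommuting transpositions -/
theorem nc_even {d e d' e' : Fi24} (hd : d ∈ L) (he : e ∈ L) (hd' : d' ∈ L) (he' : e' ∈ L)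
    (h : ¬ Commute d e) (h' : ¬ Commute d' e') :
    ∃ g ∈ commutator Fi24, g * d * g⁻¹ = d' ∧ g * e * g⁻¹ = e' := by
  obtain ⟨u, hu, hu'⟩ := exists_nc hd he h
  obtain ⟨v, hv, hv'⟩ := exists_nc hd' he' h'
  have hb := sgn_L (gen_mem_L .b)
  have c1 : gen .b * gen .l = gen .l * gen .b := Fi24Class.gen_comm .b .l (by decide)
  have c2 : gen .b * gen .k = gen .k * gen .b := Fi24Class.gen_comm .b .k (by decide)
  rcases Int.units_eq_one_or (sgn (v * u⁻¹)) with hs | hs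
  · refine ⟨v * u⁻¹, mem_commutator_iff.2 hs, ?_, ?_⟩
    · rw [← hu, ← hv]; group
    · rw [← hu', ← hv']; group
  · refine ⟨v * gen .b * u⁻¹, mem_commutator_iff.2 ?_, ?_, ?_⟩
    · rw [map_mul, map_mul, hb, mul_comm (sgn v), mul_assoc, ← map_mul, hs]
      decide
    · rw [← hu, ← hv]
      calc v * gen .b * u⁻¹ * (u * gen .l * u⁻¹) * (v * gen .b * u⁻¹)⁻¹
          = v * (gen .b * gen .l * (gen .b)⁻¹) * v⁻¹ := by group
        _ = v * gen .l * v⁻¹ := by rw [c1, mul_inv_cancel_right]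
    · rw [← hu', ← hv']
      calc v * gen .b * u⁻¹ * (u * gen .k * u⁻¹) * (v * gen .b * u⁻¹)⁻¹
          = v * (gen .b * gen .k * (gen .b)⁻¹) * v⁻¹ := by group
        _ = v * gen .k * v⁻¹ := by rw [c2, mul_inv_cancel_right]

/-- **[CONJ]**, with the pairs -/
theorem conj_pair {d e d' e' : Fi24} (hd : d ∈ L) (he : e ∈ L) (hd' : d' ∈ L) (he' : e' ∈ L)
    (hne : d ≠ e) (hne' : d' ≠ e') (h : Commute d e ↔ Commute d' e') :
    ∃ g ∈ commutator Fi24, g * d * g⁻¹ = d' ∧ g * e * g⁻¹ = e' := by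
  by_cases hc : Commute d e
  · exact trans2 hd he hd' he' hne hc hne' (h.1 hc)
  · exact nc_even hd he hd' he' hc fun h' => hc (h.2 h')

/-- **[CONJ]** -/
theorem conj {d e d' e' : Fi24} (hd : d ∈ L) (he : e ∈ L) (hd' : d' ∈ L) (he' : e' ∈ L)
    (hne : d ≠ e) (hne' : d' ≠ e') (h : Commute d e ↔ Commute d' e') :
    ∃ g ∈ commutator Fi24, g * (d * e) * g⁻¹ = d' * e' := by
  obtain ⟨g, hg, h1, h2⟩ := conj_pair hd he hd' he' hne hne' h
  refine ⟨g, hg, ?_⟩
  rw [← h1, ← h2]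
  group

end Cfsg.Agent.H842.S8
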